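import Groth.Agent.WedgeDual5.Alg
import Groth.Agent.ExtFilt28.Maps
import Groth.Agent.Coherent.InternalHomAdj
import Groth.Agent.Coherent.Existence.HomAffine
import Groth.Agent.CohExch.IsoCrit
import Groth.Agent.KvbLam28.Basic
import Groth.Agent.ExtPowEx28.Basic
import Groth.Agent.SerreDual.ExtShTensor

/-!
# The wedge pairing `⋀^q E ≅ Hom(⋀^p E, ⋀^n E)` for `E` finite locally free of rank `n = p + q`
-/

set_option autoImplicit false
set_option linter.style.haveILetI false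
set_option backward.isDefEq.respectTransparency.types false
set_option maxHeartbeats 1000000

universe u

open CategoryTheory CategoryTheory.Limits AlgebraicGeometry Opposite TopologicalSpace
open Groth.Agent.Coherent Groth.Agent.PicLib Groth.Agent.AmpleLib Groth.Agent.GrassLib.PBundle

namespace Groth.Agent.WedgeDual5

variable {X : Scheme.{u}} {E : X.Modules} {p q n : ℕ}

theorem isFinLocFree_of_isExtPow (hE : FlatMod.IsFinLocFree E) {i : ℕ} {L : X.Modules}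
    (hL : ExtPow.IsExtPow i E L) : FlatMod.IsFinLocFree L := by
  obtain ⟨L', hL', hE'⟩ := ExtPowEx28.exists_isExtPow hE i
  obtain ⟨e⟩ := KvbLam28.exists_iso_of_isExtPow hE' hL
  exact fun x => by
    obtain ⟨U, m, hx, ⟨f⟩⟩ := hL' x
    exact ⟨U, m, hx, ⟨(Scheme.Modules.restrictFunctor U.ι).mapIso e.symm ≪≫ f⟩⟩

/-- `⋀^q E ≅ Hom(⋀^p E, ⋀^n E)`. -/
theorem nonempty_iso_internalHom (hE : FlatMod.IsFinLocFreeOfRank n E) (h : p + q = n) {L L' W : X.Modules}
    (hL : ExtPow.IsExtPow p E L) (hL' : ExtPow.IsExtPow q E L') (hW : ExtPow.IsExtPow n E W) :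
    Nonempty (L' ≅ internalHom L W) := by
  have hEf := LocFreeLib.isFinLocFree_of_rank hE
  haveI := CAlgH3.LocFreeFactor.isQCoh_of_finLocFree (isFinLocFree_of_isExtPow hEf hL)
  haveI := CAlgH3.LocFreeFactor.isQCoh_of_finLocFree (isFinLocFree_of_isExtPow hEf hL')
  haveI : Coh.IsQCoh (internalHom L W) := CAlgH3.LocFreeFactor.isQCoh_of_finLocFree
    (CohBC.isFinLocFree_internalHom (isFinLocFree_of_isExtPow hEf hL) (isFinLocFree_of_isExtPow hEf hW))
  obtain ⟨φ, hφ⟩ := hL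
  obtain ⟨φ', hφ'⟩ := hL'
  obtain ⟨χ, hχ⟩ := hW
  obtain ⟨μ, hμ⟩ := ExtFilt28.exists_muHom (𝟙 E) φ φ' χ hφ hφ' hχ h
  let ψ : L' ⟶ internalHom L W := curry (bilinOfHom μ)
  suffices IsIso ψ from ⟨asIso ψ⟩
  refine CohExch.isIso_of_bijective_affine_cover ψ fun x => ?_
  obtain ⟨A, hxA, ⟨eA⟩⟩ := hE x
  obtain ⟨(U : X.Opens), hU, hxU, hle⟩ := Opens.isBasis_iff_nbhd.mp X.isBasis_affineOpens hxA
  refine ⟨U, hU, hxU, ?_⟩
  obtain ⟨b⟩ := Props12.exists_basis_sections eA hle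
  let b' : Module.Basis (Fin n) Γ(X, U) (E.val.obj (op U)) := b
  let T : Γ(L', U) ≃ₗ[Γ(X, U)] (Γ(L, U) →ₗ[Γ(X, U)] Γ(W, U)) :=
    (LinearEquiv.ofBijective ((wedgeHom h).comp (φ' ⟨U, hU⟩).toLinearMap)
      ((bijective_wedgeHom h b').comp (φ' ⟨U, hU⟩).bijective)).trans
      (LinearEquiv.arrowCongr (φ ⟨U, hU⟩).symm (χ ⟨U, hU⟩).symm)
  have key : ∀ a, Existence.secLinEquiv hU (ψ.app U a) = T a := fun a => LinearMap.ext fun l => by
    rw [Existence.secLinEquiv_apply, ev_curry]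
    show μ.app U (tmul l (resM L' le_rfl a)) = _
    rw [PicLib.resM_self, hμ ⟨U, hU⟩]
    show (χ ⟨U, hU⟩).symm (ExtFilt28.mu (ExtFilt28.secMap (𝟙 E) U) h
      (TensorProduct.map (φ ⟨U, hU⟩).toLinearMap (φ' ⟨U, hU⟩).toLinearMap
        ((ExtFilt28.tmulEquiv L L' ⟨U, hU⟩).symm (tmul l a)))) = _
    rw [ExtFilt28.tmulEquiv_symm_tmul]
    rfl
  refine (Function.Bijective.of_comp_iff' (Existence.secLinEquiv hU).bijective _).1 ?_
  rw [show (Existence.secLinEquiv hU ∘ ψ.app U) = ⇑T from funext key]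
  exact T.bijective

end Groth.Agent.WedgeDual5
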