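import Groth.Agent.ExtFilt28.Alg

/-!
# The wedge pairing of complementary exterior powers of a free module is perfect
-/

set_option autoImplicit false
set_option linter.style.haveILetI false
universe u

open scoped TensorProduct
open Set Set.powersetCard

namespace Groth.Agent.WedgeDual5

variable {R : Type u} [CommRing R] {M : Type u} [AddCommGroup M] [Module R M]

/-- Right wedge multiplication into the top power. -/
noncomputable def wedgeHom {p q n : ℕ} (h : p + q = n) :
    ⋀[R]^q M →ₗ[R] (⋀[R]^p M →ₗ[R] ⋀[R]^n M) :=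
  (TensorProduct.curry (ExtFilt28.mu (LinearMap.id : M →ₗ[R] M) h)).flip

theorem wedgeHom_apply {p q n : ℕ} (h : p + q = n) (a : ⋀[R]^q M) (x : ⋀[R]^p M) :
    wedgeHom h a x = ExtFilt28.mu (LinearMap.id : M →ₗ[R] M) h (x ⊗ₜ a) := rfl

theorem bijective_wedgeHom {p q n : ℕ} (h : p + q = n) (b : Module.Basis (Fin n) R M) :
    Function.Bijective (wedgeHom (R := R) (M := M) h) := by
  classical
  subst h
  let Bp := b.exteriorPower p
  let Bq := b.exteriorPower q
  let ω := exteriorPower.ιMulti R (p + q) b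
  have hω : Function.Bijective fun r : R => r • ω := by
    let s₀ : powersetCard (Fin (p + q)) (p + q) := ⟨Finset.univ, by simp⟩
    haveI : Unique (powersetCard (Fin (p + q)) (p + q)) :=
      { default := s₀
        uniq := fun s => Subtype.ext (Finset.eq_univ_of_card s.1 (by rw [s.2, Fintype.card_fin])) }
    have hs : (b.exteriorPower (p + q)) s₀ = ω := by
      rw [exteriorPower.basis_apply, exteriorPower.ιMulti_family, ofFinEmbEquiv_symm_apply]
      show _ = exteriorPower.ιMulti R (p + q) b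
      congr 1
      funext i
      show b _ = b i
      rw [show Finset.orderEmbOfFin s₀.1 s₀.2 = RelEmbedding.refl _ from
        (Finset.orderEmbOfFin_unique' _ fun x => Finset.mem_univ _).symm]
      rfl
    have e : (fun r : R => r • ω) =
        ⇑(b.exteriorPower (p + q)).repr.symm ∘ fun r => Finsupp.single s₀ r := funext fun r => by
      rw [Function.comp_apply, Module.Basis.repr_symm_apply, Finsupp.linearCombination_single, hs]
    rw [e]
    exact (LinearEquiv.bijective _).comp
      ⟨Finsupp.single_injective s₀, fun c => ⟨c s₀, Finsupp.ext fun x => by rw [Subsingleton.elim x s₀, Finsupp.single_eq_same]⟩⟩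
  let cq : powersetCard (Fin (p + q)) q ≃ powersetCard (Fin (p + q)) p :=
    compl (m := p) (by rw [Fintype.card_fin])
  have hval : ∀ S T, ExtFilt28.mu (LinearMap.id : M →ₗ[R] M) rfl (Bp S ⊗ₜ[R] Bq T) =
      exteriorPower.ιMulti R (p + q) (b ∘ Fin.append (ofFinEmbEquiv.symm S) (ofFinEmbEquiv.symm T)) := by
    intro S T
    rw [exteriorPower.basis_apply, exteriorPower.basis_apply, exteriorPower.ιMulti_family,
      exteriorPower.ιMulti_family, ExtFilt28.mu_ιMulti]
    congr 1
    funext x
    refine Fin.addCases (fun i => ?_) (fun i => ?_) x <;> simp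
  have hzero : ∀ S T, cq T ≠ S → ExtFilt28.mu (LinearMap.id : M →ₗ[R] M) rfl (Bp S ⊗ₜ[R] Bq T) = 0 := by
    intro S T hne
    obtain ⟨i, hiS, hiT⟩ : ∃ i, i ∈ S ∧ i ∈ T := by
      by_contra hc
      simp only [not_exists, not_and] at hc
      refine hne (Subtype.ext (Finset.eq_of_subset_of_card_le (fun i hi => ?_) ?_).symm)
      · exact (mem_compl (hm := by rw [Fintype.card_fin]) (s := T)).2 (hc i hi)
      · rw [(cq T).2, S.2]
    obtain ⟨x, hx⟩ := (mem_range_ofFinEmbEquiv_symm_iff_mem S i).2 hiS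
    obtain ⟨y, hy⟩ := (mem_range_ofFinEmbEquiv_symm_iff_mem T i).2 hiT
    rw [hval]
    refine AlternatingMap.map_eq_zero_of_eq _ _ (i := Fin.castAdd q x) (j := Fin.natAdd p y) ?_
      (fun h' => absurd (congrArg Fin.val h') (by simp only [Fin.val_castAdd, Fin.val_natAdd]; omega))
    simp [Function.comp_apply, hx, hy]
  have hunit : ∀ T, ∃ u : R, IsUnit u ∧
      ExtFilt28.mu (LinearMap.id : M →ₗ[R] M) rfl (Bp (cq T) ⊗ₜ[R] Bq T) = u • ω := by
    intro T
    have hinj : Function.Injective (Fin.append (ofFinEmbEquiv.symm (cq T)) (ofFinEmbEquiv.symm T)) := by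
      refine Fin.append_injective_iff.2 ⟨(ofFinEmbEquiv.symm (cq T)).injective, (ofFinEmbEquiv.symm T).injective,
        fun x y hxy => ?_⟩
      have h1 := (mem_range_ofFinEmbEquiv_symm_iff_mem (cq T) _).1 ⟨x, rfl⟩
      have h2 := (mem_range_ofFinEmbEquiv_symm_iff_mem T _).1 ⟨y, rfl⟩
      exact (mem_compl (hm := by rw [Fintype.card_fin]) (s := T)).1 h1 (hxy ▸ h2)
    let σ : Equiv.Perm (Fin (p + q)) := Equiv.ofBijective _ (Finite.injective_iff_bijective.1 hinj)
    refine ⟨((Equiv.Perm.sign σ : ℤ) : R), (Units.isUnit (Equiv.Perm.sign σ)).map (Int.castRingHom R), ?_⟩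
    rw [hval, show (b ∘ Fin.append _ _) = b ∘ σ from rfl, AlternatingMap.map_perm, Units.smul_def]
    exact (Int.cast_smul_eq_zsmul R ((Equiv.Perm.sign σ : ℤˣ) : ℤ) ω).symm
  choose u hu hue using hunit
  have key : ∀ (a : ⋀[R]^q M) T, wedgeHom rfl a (Bp (cq T)) = (Bq.repr a T * u T) • ω := by
    intro a T
    conv_lhs => rw [← Bq.sum_repr a]
    rw [map_sum, LinearMap.sum_apply, Finset.sum_eq_single T]
    · rw [map_smul, LinearMap.smul_apply, wedgeHom_apply, hue, smul_smul]
    · intro T' _ hT'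
      rw [map_smul, LinearMap.smul_apply, wedgeHom_apply, hzero _ _ fun h => hT' (cq.injective h), smul_zero]
    · exact fun h => absurd (Finset.mem_univ T) h
  refine ⟨(injective_iff_map_eq_zero _).2 fun a ha => ?_, fun L => ?_⟩
  · refine Bq.repr.map_eq_zero_iff.1 (Finsupp.ext fun T => ?_)
    refine (hu T).mul_left_eq_zero.1 (hω.1 ?_)
    show _ • ω = (0 : R) • ω
    rw [← key, ha, LinearMap.zero_apply, zero_smul]
  · choose c hc using fun T => hω.2 (L (Bp (cq T)))
    refine ⟨∑ T, (c T * ↑(hu T).unit⁻¹) • Bq T, Bp.ext fun S => ?_⟩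
    obtain ⟨T, rfl⟩ := cq.surjective S
    rw [key, Bq.repr_sum_self, mul_assoc, IsUnit.val_inv_mul, mul_one]
    exact hc T

end Groth.Agent.WedgeDual5
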